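import Cfsg.Agent.Lib.FusionP3.GT.Basic
import Cfsg.Agent.Lib.FusionSystem.Normal
import Cfsg.Agent.Lib.PGroups.Frattini

/-!
Minimal strongly closed subgroups when all subgroups of one order are weakly embedded.
-/

set_option autoImplicit false
set_option linter.style.haveILetI false
set_option linter.unusedSectionVars false

namespace Cfsg.Agent.Lib.FusionP3.WeakEmb

open Cfsg Cfsg.FusionSystem Cfsg.Agent.Lib.FS
open Cfsg.Agent.Lib.FusionP3.GT

variable {Ω : Type*} [Group Ω] {S : Subgroup Ω} [Finite S] {p : ℕ} [Fact p.Prime] {F : FusionSystem S}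

/-- all maps are conjugations -/
def IsInner (F : FusionSystem S) : Prop :=
  ∀ (P : Subgroup Ω) (φ : P →* Ω), φ ∈ F.Hom P → ∃ g ∈ S, ∀ x : P, φ x = g * x * g⁻¹

/-- every subgroup of order `d` is weakly embedded -/
def Emb (F : FusionSystem S) (d : ℕ) : Prop :=
  ∀ Q : Subgroup Ω, Q ≤ S → Nat.card Q = d →
    ∃ P, F.StronglyClosed P ∧ F.StronglyClosed (Q ⊔ P) ∧ F.StronglyClosed (Q ⊓ P)

/-- normalizers of the subgroups of order `d` have no automorphisms of order prime to `p` -/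
def NTr (F : FusionSystem S) (p d : ℕ) : Prop :=
  ∀ H : Subgroup Ω, H ≤ S → Nat.card H = d → NTriv F p H

theorem isInner_of_local (hS : IsPGroup p S) (hF : F.IsSaturated p)
    (h : ∀ P : Subgroup Ω, F.IsFullyNormalized P → F.IsCentric P → F.IsRadical p P →
      ∀ α ∈ F.autGroup P, (orderOf α).Coprime p → α = 1) : IsInner F := by
  refine Induction.hom_induction hS hF (M := fun P φ => ∃ g ∈ S, ∀ x : P, φ x = g * x * g⁻¹) ?_ ?_ ?_
  · rintro P Q φ ψ χ - - hm he ⟨g, hg, hgφ⟩ ⟨k, hk, hkψ⟩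
    refine ⟨k * g, mul_mem hk hg, fun x => ?_⟩
    rw [he, hkψ]
    show k * φ x * k⁻¹ = _
    rw [hgφ]; group
  · rintro P Q φ ψ hle - he ⟨g, hg, hgψ⟩
    exact ⟨g, hg, fun x => by rw [he, hgψ]⟩
  · intro P hfn hc hr α hα _
    haveI := finite_sub hfn.1
    haveI := finite_mulAut ↥P
    have hp : IsPGroup p (F.autGroup P) := isPGroup_of_coprime fun a ha =>
      Subtype.ext (h P hfn hc hr a a.2 (by rwa [Subgroup.orderOf_coe]))
    have hinn : α ∈ Inn P := hr.2.le ⟨⟨α, hα⟩, Cores.le_pCore (N := ⊤) (hp.to_subgroup ⊤) (Subgroup.mem_top _), rfl⟩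
    obtain ⟨q, rfl⟩ := hinn
    exact ⟨q, hc.1 q.2, fun x => rfl⟩

theorem isInner_of_normal (hS : IsPGroup p S) (hF : F.IsSaturated p) {W : Subgroup Ω} (hW : F.IsNormal W)
    (hN : NTriv F p W) : IsInner F :=
  isInner_of_local hS hF fun P hfn hc hr α hα hco =>
    hN P (isNormal_le_centricRadical hS hW hc hr) (fun g hg => ⟨hfn.1 hg, isNormal_le_normalizer hW (hfn.1 hg)⟩)
      α hα (fun x hx => (autGroup_mem_iff_of_stronglyClosed (isNormal_stronglyClosed hW) hfn.1 hα x).1 hx) hco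

theorem closed_inf {A B : Subgroup Ω} (hA : F.StronglyClosed A) (hB : F.StronglyClosed B) :
    F.StronglyClosed (A ⊓ B) :=
  ⟨inf_le_left.trans hA.1, fun R hR φ hφ x =>
    ⟨hA.2 R (hR.trans inf_le_left) φ hφ x, hB.2 R (hR.trans inf_le_right) φ hφ x⟩⟩

theorem conj_mem_closed {A : Subgroup Ω} (hA : F.StronglyClosed A) {g a : Ω} (hg : g ∈ S) (ha : a ∈ A) :
    g * a * g⁻¹ ∈ A := hA.2 A le_rfl _ (F.conj_mem hA.1 hg) ⟨a, ha⟩

theorem exists_mul_of_mem {Q P : Subgroup Ω} (hQ : Q ≤ S) (hP : F.StronglyClosed P) {x : Ω} (hx : x ∈ Q ⊔ P) :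
    ∃ q ∈ Q, ∃ c ∈ P, x = q * c := by
  haveI := finite_sub hP.1
  have hle : Q ≤ Subgroup.normalizer (P : Set Ω) := fun g hg =>
    mem_normalizer_of_conj_mem fun y hy => conj_mem_closed hP (hQ hg) hy
  obtain ⟨q, hq, c, hc, rfl⟩ := (Subgroup.coe_mul_of_left_le_normalizer_right Q P hle).le hx
  exact ⟨q, hq, c, hc, rfl⟩

theorem commute_of_disjoint {A B : Subgroup Ω} (hA : F.StronglyClosed A) (hB : F.StronglyClosed B)
    (h : A ⊓ B = ⊥) {a b : Ω} (ha : a ∈ A) (hb : b ∈ B) : a * b = b * a := by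
  have h1 : a * b * a⁻¹ * b⁻¹ ∈ A ⊓ B := by
    refine ⟨?_, B.mul_mem (conj_mem_closed hB (hA.1 ha) hb) (B.inv_mem hb)⟩
    simpa [mul_assoc] using A.mul_mem ha (conj_mem_closed hA (hB.1 hb) (A.inv_mem ha))
  rw [h, Subgroup.mem_bot] at h1
  calc a * b = a * b * a⁻¹ * b⁻¹ * (b * a) := by group
    _ = b * a := by rw [h1, one_mul]

/-- minimal nontrivial strongly closed -/
def IsMin (F : FusionSystem S) (W : Subgroup Ω) : Prop :=
  F.StronglyClosed W ∧ W ≠ ⊥ ∧ ∀ K, F.StronglyClosed K → K ≤ W → K = ⊥ ∨ K = W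

theorem exists_min {X : Subgroup Ω} (hX : F.StronglyClosed X) (hne : X ≠ ⊥) : ∃ W, IsMin F W ∧ W ≤ X := by
  haveI : Finite {W : Subgroup Ω // W ≤ S} := finite_subgroups_le
  haveI : Nonempty {W : {W : Subgroup Ω // W ≤ S} // F.StronglyClosed W.1 ∧ W.1 ≠ ⊥ ∧ W.1 ≤ X} :=
    ⟨⟨⟨X, hX.1⟩, hX, hne, le_rfl⟩⟩
  obtain ⟨⟨⟨W, hWS⟩, hW, hWne, hWX⟩, hmin⟩ := Finite.exists_min
    fun W : {W : {W : Subgroup Ω // W ≤ S} // F.StronglyClosed W.1 ∧ W.1 ≠ ⊥ ∧ W.1 ≤ X} => Nat.card W.1.1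
  haveI := finite_sub hWS
  refine ⟨W, ⟨hW, hWne, fun K hK hKW => or_iff_not_imp_left.2 fun hKne => ?_⟩, hWX⟩
  exact Subgroup.eq_of_le_of_card_ge hKW (hmin ⟨⟨K, hKW.trans hWS⟩, hK, hKne, hKW.trans hWX⟩)

theorem IsMin.le_or_disjoint {W K : Subgroup Ω} (hW : IsMin F W) (hK : F.StronglyClosed K) :
    W ≤ K ∨ W ⊓ K = ⊥ := by
  rcases hW.2.2 _ (closed_inf hW.1 hK) inf_le_left with h | h
  · exact Or.inr h
  · exact Or.inl (h ▸ inf_le_right)

theorem exists_subgroup_between {G : Type*} [Group G] {X : Subgroup G} [Finite X] {A : Subgroup G} (hA : A ≤ X)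
    {n m : ℕ} (hn : Nat.card A = p ^ n) (hm : p ^ m ∣ Nat.card X) (hnm : n ≤ m) :
    ∃ Q ≤ X, A ≤ Q ∧ Nat.card Q = p ^ m := by
  obtain ⟨K, hK, hle⟩ := Sylow.exists_subgroup_card_pow_prime_le p hm (A.subgroupOf X)
    ((Nat.card_congr (Subgroup.subgroupOfEquivOfLe hA).toEquiv).trans hn) hnm
  refine ⟨K.map X.subtype, Subgroup.map_subtype_le _, fun a ha => ⟨⟨a, hA ha⟩, hle ha, rfl⟩, ?_⟩
  rw [Subgroup.card_map_of_injective X.subtype_injective, hK]

theorem ne_bot_of_one_lt {H : Subgroup Ω} (h : 1 < Nat.card H) : H ≠ ⊥ := fun he => by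
  rw [he, Subgroup.card_bot] at h; omega

variable {d k : ℕ}

/-- Minimal strongly closed subgroups have order at most `d`. -/
theorem IsMin.card_le (hS : IsPGroup p S) (hEmb : Emb F d) (hd : d = p ^ k) (hk : k ≠ 0) {W : Subgroup Ω}
    (hW : IsMin F W) : Nat.card W ≤ d := by
  by_contra hlt
  rw [not_le] at hlt
  haveI := finite_sub hW.1.1
  obtain ⟨m, hm⟩ := IsPGroup.iff_card.1 (hS.to_le hW.1.1)
  have hkm : k ≤ m := ((Nat.pow_lt_pow_iff_right (Fact.out : p.Prime).one_lt).1 (by rw [← hd, ← hm]; exact hlt)).le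
  obtain ⟨Q, hQW, -, hQc⟩ := exists_subgroup_between (X := W) (A := ⊥) bot_le (n := 0)
    (by rw [Subgroup.card_bot, pow_zero]) (hm ▸ pow_dvd_pow p hkm) (Nat.zero_le _)
  have hne : Q ≠ ⊥ := ne_bot_of_one_lt (hQc ▸ Nat.one_lt_pow hk (Fact.out : p.Prime).one_lt)
  have hQW' : Q ≠ W := fun h => by rw [h] at hQc; omega
  obtain ⟨P, hP, hB, hA⟩ := hEmb Q (hQW.trans hW.1.1) (hQc.trans hd.symm)
  rcases hW.le_or_disjoint hP with hle | hdis
  · rw [inf_eq_left.2 (hQW.trans hle)] at hA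
    exact (hW.2.2 Q hA hQW).elim hne hQW'
  · have h1 : W ⊓ (Q ⊔ P) = Q := by
      refine le_antisymm ?_ (le_inf hQW le_sup_left)
      rintro x ⟨hxW, hx⟩
      obtain ⟨q, hq, c, hc, rfl⟩ := exists_mul_of_mem (hQW.trans hW.1.1) hP hx
      have : c ∈ W ⊓ P := ⟨by simpa using mul_mem (inv_mem (hQW hq)) hxW, hc⟩
      rw [hdis, Subgroup.mem_bot] at this
      rw [this, mul_one]; exact hq
    exact (hW.2.2 Q (h1 ▸ closed_inf hW.1 hB) hQW).elim hne hQW'

/-- A subgroup of order `d` meeting a minimal strongly closed subgroup properly. -/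
theorem IsMin.meets (hEmb : Emb F d) {W Q : Subgroup Ω} (hW : IsMin F W) (hQS : Q ≤ S) (hQ : Nat.card Q = d)
    {z : Ω} (hzW : z ∈ W) (hzQ : z ∈ Q) (hz : z ≠ 1) (hnle : ¬ W ≤ Q) :
    ∃ P, F.StronglyClosed P ∧ P ≠ ⊥ ∧ W ⊓ P = ⊥ ∧ W ≤ Q ⊔ P := by
  obtain ⟨P, hP, hB, hA⟩ := hEmb Q hQS hQ
  have hzne : ∀ K : Subgroup Ω, z ∈ K → K ≠ ⊥ := fun K hK h => hz (Subgroup.mem_bot.1 (h ▸ hK))
  have hdis : W ⊓ P = ⊥ := by
    rcases hW.le_or_disjoint hP with hle | h
    · have h1 : Q ⊓ P ⊓ W = Q ⊓ W := by rw [inf_assoc, inf_eq_right.2 hle]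
      rcases hW.2.2 _ (h1 ▸ closed_inf hA hW.1) inf_le_right with h2 | h2
      · exact absurd h2 (hzne _ ⟨hzQ, hzW⟩)
      · exact absurd (h2 ▸ inf_le_left) hnle
    · exact h
  have hle : W ≤ Q ⊔ P := by
    rcases hW.le_or_disjoint hB with h | h
    · exact h
    · exact absurd h (hzne _ ⟨hzW, Subgroup.mem_sup_left hzQ⟩)
  exact ⟨P, hP, fun h => hnle (by rwa [h, sup_bot_eq] at hle), hdis, hle⟩

/-- A minimal strongly closed subgroup of order `d` is abelian. -/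
theorem IsMin.abelian (hS : IsPGroup p S) (hEmb : Emb F d) (hd : d = p ^ k) (hk : k ≠ 0) (hdS : d < Nat.card S)
    {W : Subgroup Ω} (hW : IsMin F W) (hWc : Nat.card W = d) : ∀ a ∈ W, ∀ b ∈ W, a * b = b * a := by
  by_contra hna
  have hp := (Fact.out : p.Prime)
  haveI := finite_sub hW.1.1
  have hWp : IsPGroup p W := hS.to_le hW.1.1
  -- `d` is not `p`
  have hk2 : 2 ≤ k := by
    by_contra h2
    obtain rfl : k = 1 := by omega
    rw [hd, pow_one] at hWc
    haveI := isCyclic_of_prime_card hWc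
    exact hna fun a ha b hb => congrArg Subtype.val ((IsCyclic.isMulCommutative (α := W)).is_comm.comm (⟨a, ha⟩ : W) ⟨b, hb⟩)
  obtain ⟨m, hm⟩ := IsPGroup.iff_card.1 hS
  have hkm : k + 1 ≤ m := (Nat.pow_lt_pow_iff_right hp.one_lt).1 (by rw [← hd, ← hm]; exact hdS)
  obtain ⟨X, hXS, hWX, hXc⟩ := exists_subgroup_between (X := S) hW.1.1 (hWc.trans hd)
    (hm ▸ pow_dvd_pow p hkm) (Nat.le_succ k)
  haveI := finite_sub hXS
  obtain ⟨g, hgX, hgW⟩ := SetLike.exists_of_lt (lt_of_le_of_ne hWX fun h => by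
    rw [← h, hWc, hd] at hXc
    exact absurd ((Nat.pow_right_injective hp.two_le) hXc) (Nat.succ_ne_self k).symm)
  haveI := finite_sub ((Subgroup.zpowers_le.2 hgX).trans hXS)
  obtain ⟨j, hj⟩ := IsPGroup.iff_card.1 (hS.to_le ((Subgroup.zpowers_le.2 hgX).trans hXS))
  have hjk : j ≤ k + 1 := (Nat.pow_le_pow_iff_right hp.one_lt).1
    (hj ▸ hXc ▸ Subgroup.card_le_of_le (Subgroup.zpowers_le.2 hgX))
  have hjk' : j ≤ k := by
    by_contra h3
    have h4 : Subgroup.zpowers g = X := Subgroup.eq_of_le_of_card_ge (Subgroup.zpowers_le.2 hgX)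
      (by rw [hj, hXc, show j = k + 1 by omega])
    refine hna fun a ha b hb => ?_
    obtain ⟨u, rfl⟩ := Subgroup.mem_zpowers_iff.1 (h4.ge (hWX ha))
    obtain ⟨v, rfl⟩ := Subgroup.mem_zpowers_iff.1 (h4.ge (hWX hb))
    exact ((Commute.refl g).zpow_zpow u v).eq
  obtain ⟨Q, hQX, hgQ, hQc⟩ := exists_subgroup_between (X := X) (Subgroup.zpowers_le.2 hgX) hj
    (hXc ▸ pow_dvd_pow p (Nat.le_succ k)) hjk'
  haveI := finite_sub (hQX.trans hXS)
  have hnle : ¬ W ≤ Q := fun h => hgW ((Subgroup.eq_of_le_of_card_ge h (by rw [hQc, hWc, hd])).ge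
    (hgQ (Subgroup.mem_zpowers g)))
  have hmeet : ∃ z ∈ W, z ∈ Q ∧ z ≠ 1 := by
    by_contra h3
    push Not at h3
    have h4 : Nat.card (W × Q) ≤ Nat.card X := Nat.card_le_card_of_injective
      (fun x : W × Q => (⟨(x.1 : Ω) * x.2, mul_mem (hWX x.1.2) (hQX x.2.2)⟩ : X)) (by
        rintro ⟨a, b⟩ ⟨a', b'⟩ he
        have he' : (a : Ω) * b = a' * b' := congrArg Subtype.val he
        have he'' : (a' : Ω)⁻¹ * a = b' * (b : Ω)⁻¹ := by
          calc (a' : Ω)⁻¹ * a = (a' : Ω)⁻¹ * ((a : Ω) * b) * (b : Ω)⁻¹ := by group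
            _ = _ := by rw [he']; group
        have h5 := h3 _ (mul_mem (inv_mem a'.2) a.2) (he'' ▸ mul_mem b'.2 (inv_mem b.2))
        obtain rfl : a = a' := Subtype.ext (inv_mul_eq_one.1 h5).symm
        obtain rfl : b = b' := Subtype.ext (mul_left_cancel he')
        rfl)
    rw [Nat.card_prod, hWc, hQc, hXc, hd, ← pow_add] at h4
    have := (Nat.pow_le_pow_iff_right hp.one_lt).1 h4
    omega
  obtain ⟨z, hzW, hzQ, hz⟩ := hmeet
  obtain ⟨P, hP, hPne, hdis, -⟩ := hW.meets hEmb (hQX.trans hXS) (hQc.trans hd.symm) hzW hzQ hz hnle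
  -- an element of order `p` centralising `W`
  haveI := finite_sub hP.1
  haveI : Nontrivial P := Subgroup.nontrivial_iff_ne_bot P |>.2 hPne
  obtain ⟨l, hl0, hl⟩ := (IsPGroup.nontrivial_iff_card (hS.to_le hP.1)).1 inferInstance
  obtain ⟨u, hu⟩ := exists_prime_orderOf_dvd_card' (G := P) p (hl ▸ dvd_pow_self p hl0.ne')
  -- every coatom of `W` supplements the centre
  have key : ∀ M : Subgroup W, IsCoatom M → M ⊔ Subgroup.center W = ⊤ := by
    intro M hM
    haveI := PGroups.coatom_normal hWp hM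
    have hMi := PGroups.coatom_index hWp hM
    set M' := M.map W.subtype with hM'
    have hM'W : M' ≤ W := Subgroup.map_subtype_le M
    have hM'c : Nat.card M' = p ^ (k - 1) := by
      rw [hM', Subgroup.card_map_of_injective W.subtype_injective]
      have h5 := M.card_mul_index
      rw [hMi, hWc, hd] at h5
      refine Nat.eq_of_mul_eq_mul_right hp.pos (h5.trans ?_)
      rw [← pow_succ, show k - 1 + 1 = k by omega]
    set U := Subgroup.zpowers (u : Ω) with hU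
    have huP : U ≤ P := Subgroup.zpowers_le.2 u.2
    have hUc : Nat.card U = p := by rw [hU, Nat.card_zpowers, Subgroup.orderOf_coe, hu]
    have hcomm : ∀ a ∈ M', ∀ b ∈ U, a * b = b * a := fun a ha b hb =>
      commute_of_disjoint hW.1 hP hdis (hM'W ha) (huP hb)
    have hle : M' ≤ Subgroup.normalizer (U : Set Ω) := fun a ha b => by
      constructor
      · intro hb
        rw [hcomm a ha b hb, mul_inv_cancel_right]; exact hb
      · intro hb
        have h5 : a * (a * b * a⁻¹) = a * b * a⁻¹ * a := hcomm a ha _ hb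
        rw [inv_mul_cancel_right] at h5
        rwa [← mul_left_cancel h5]
    set Q' := M' ⊔ U with hQ'
    have hQ'S : Q' ≤ S := sup_le (hM'W.trans hW.1.1) (huP.trans hP.1)
    haveI := finite_sub hQ'S
    have hQ'c : Nat.card Q' = d := by
      have hb : Function.Bijective (fun x : M' × U =>
          (⟨(x.1 : Ω) * x.2, Subgroup.mul_mem_sup x.1.2 x.2.2⟩ : Q')) := by
        constructor
        · rintro ⟨a, b⟩ ⟨a', b'⟩ he
          have he' : (a : Ω) * b = a' * b' := congrArg Subtype.val he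
          have he'' : (a' : Ω)⁻¹ * a = b' * (b : Ω)⁻¹ := by
            calc (a' : Ω)⁻¹ * a = (a' : Ω)⁻¹ * ((a : Ω) * b) * (b : Ω)⁻¹ := by group
              _ = _ := by rw [he']; group
          have h5 : (a' : Ω)⁻¹ * a ∈ W ⊓ P := ⟨hM'W (mul_mem (inv_mem a'.2) a.2),
            he'' ▸ huP (mul_mem b'.2 (inv_mem b.2))⟩
          rw [hdis, Subgroup.mem_bot] at h5
          obtain rfl : a = a' := Subtype.ext (inv_mul_eq_one.1 h5).symm
          obtain rfl : b = b' := Subtype.ext (mul_left_cancel he')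
          rfl
        · rintro ⟨x, hx⟩
          obtain ⟨a, ha, b, hb', rfl⟩ := (Subgroup.coe_mul_of_left_le_normalizer_right M' U hle).le hx
          exact ⟨(⟨a, ha⟩, ⟨b, hb'⟩), rfl⟩
      rw [← Nat.card_congr (Equiv.ofBijective _ hb), Nat.card_prod, hM'c, hUc, ← pow_succ,
        show k - 1 + 1 = k by omega, hd]
    obtain ⟨z', hz', hz'1⟩ : ∃ z' ∈ M', z' ≠ 1 := by
      haveI : Finite M' := finite_sub (hM'W.trans hW.1.1)
      have : Nontrivial M' := Finite.one_lt_card_iff_nontrivial.1 (hM'c ▸ Nat.one_lt_pow (by omega) hp.one_lt)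
      obtain ⟨x, hx⟩ := exists_ne (1 : M')
      exact ⟨x, x.2, fun h => hx (Subtype.ext h)⟩
    have hnle' : ¬ W ≤ Q' := fun h => by
      have h5 : W = Q' := Subgroup.eq_of_le_of_card_ge h (by rw [hQ'c, hWc])
      have h6 : (u : Ω) ∈ W ⊓ P := ⟨h5.ge (Subgroup.mem_sup_right (Subgroup.mem_zpowers _)), u.2⟩
      rw [hdis, Subgroup.mem_bot] at h6
      rw [show u = 1 from Subtype.ext h6, orderOf_one] at hu
      exact hp.one_lt.ne hu
    obtain ⟨P', hP', -, hdis', hW'⟩ := hW.meets hEmb hQ'S hQ'c (hM'W hz') (Subgroup.mem_sup_left hz') hz'1 hnle'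
    rw [eq_top_iff]
    rintro ⟨w, hw⟩ -
    obtain ⟨q, hq, c, hc, hwqc⟩ := exists_mul_of_mem hQ'S hP' (hW' hw)
    obtain ⟨a, ha, b, hb', rfl⟩ := (Subgroup.coe_mul_of_left_le_normalizer_right M' U hle).le hq
    obtain ⟨a', ha', rfl⟩ := ha
    have hcen : a'⁻¹ * ⟨w, hw⟩ ∈ Subgroup.center W := by
      refine Subgroup.mem_center_iff.2 fun y => Subtype.ext ?_
      show (y : Ω) * ((a' : Ω)⁻¹ * w) = (a' : Ω)⁻¹ * w * y
      have e1 : (a' : Ω)⁻¹ * w = b * c := by rw [hwqc]; show _ = _; simp [mul_assoc]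
      rw [e1]
      have hb1 : (y : Ω) * b = b * y := commute_of_disjoint hW.1 hP hdis y.2 (huP hb')
      have hc1 : (y : Ω) * c = c * y := commute_of_disjoint hW.1 hP' hdis' y.2 hc
      rw [← mul_assoc, hb1, mul_assoc, hc1, mul_assoc]
    have h7 := Subgroup.mul_mem_sup (S := M) (T := Subgroup.center W) ha' hcen
    simpa using h7
  -- hence the centre is everything
  apply hna
  have htop : Subgroup.center W = ⊤ := by
    by_contra hne
    rcases eq_top_or_exists_le_coatom (Subgroup.center W) with h | ⟨M, hM, hle⟩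
    · exact hne h
    · have := key M hM
      rw [sup_eq_left.2 hle] at this
      exact hM.1 this
  intro a ha b hb
  exact congrArg Subtype.val ((Subgroup.mem_center_iff.1 (htop.ge (Subgroup.mem_top (⟨b, hb⟩ : W)))) ⟨a, ha⟩)

theorem IsMin.isNormal_of_card (hS : IsPGroup p S) (hF : F.IsSaturated p) (hEmb : Emb F d) (hd : d = p ^ k)
    (hk : k ≠ 0) (hdS : d < Nat.card S) {W : Subgroup Ω} (hW : IsMin F W) (hWc : Nat.card W = d) :
    F.IsNormal W := by
  have hab := hW.abelian hS hEmb hd hk hdS hWc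
  refine isNormal_of_series hS hF (n := 1) ![⊥, W] rfl rfl (fun i => ?_) fun i => ?_
  · obtain rfl : i = 0 := Subsingleton.elim _ _
    exact hW.1
  · obtain rfl : i = 0 := Subsingleton.elim _ _
    show ⁅W, W⁆ ≤ ⊥
    rw [Subgroup.commutator_le]
    intro a ha b hb
    rw [Subgroup.mem_bot, commutatorElement_def, hab a ha b hb]
    group

end Cfsg.Agent.Lib.FusionP3.WeakEmb
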