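import Cfsg.Agent.Lib.FusionP3.WeakEmb.Basic
import Cfsg.Agent.Lib.FusionP3.StronglyClosed
import Cfsg.Agent.Lib.FusionP3.Tate
import Cfsg.Agent.Lib.FusionSystem.FactorSaturated

/-!
A saturated system with weakly embedded subgroups of one order and nilpotent normalizers is inner.
-/

set_option autoImplicit false
set_option linter.style.haveILetI false
set_option linter.unusedSectionVars false

namespace Cfsg.Agent.Lib.FusionP3.WeakEmb

open Cfsg Cfsg.FusionSystem Cfsg.Agent.Lib.FS
open Cfsg.Agent.Lib.FusionP3.GT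

universe u

variable {Ω : Type u} [Group Ω] {S : Subgroup Ω} [Finite S] {p : ℕ} [Fact p.Prime] {F : FusionSystem S}

/-- all automorphisms of order prime to `p` act trivially modulo `W` -/
def Mov (F : FusionSystem S) (p : ℕ) (W : Subgroup Ω) : Prop :=
  ∀ P : Subgroup Ω, P ≤ S → ∀ α ∈ F.autGroup P, (orderOf α).Coprime p → ∀ x : P,
    (x : Ω)⁻¹ * ((α x : P) : Ω) ∈ W

theorem isInner_autGroup (hS : IsPGroup p S) (h : IsInner F) {P : Subgroup Ω} (hP : P ≤ S) {α : MulAut P}
    (hα : α ∈ F.autGroup P) (hco : (orderOf α).Coprime p) : α = 1 := by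
  obtain ⟨g, hg, he⟩ := h P _ ((mem_autGroup hP).1 hα)
  exact eq_one_of_coprime_isPGroup (isPGroup_autInducedBy hS P) (mem_autInducedBy.2 ⟨g, hg, he⟩) hco

/-- An automorphism of order prime to `p` fixing `W` and trivial modulo `W` is trivial. -/
theorem eq_one_of_fix {P W : Subgroup Ω} (hS : IsPGroup p S) (hP : P ≤ S) {α : MulAut P}
    (hfix : ∀ x : P, (x : Ω) ∈ W → α x = x) (hmov : ∀ x : P, (x : Ω)⁻¹ * ((α x : P) : Ω) ∈ W)
    (hco : (orderOf α).Coprime p) : α = 1 := by
  obtain ⟨b, -, hb⟩ := exists_pow_fix (γ := α) hS hP (Z := W) (a := 0)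
    (fun x hx => by rw [hfix x hx]; exact hx) fun x hx => by rw [pow_zero, pow_one, hfix x hx]
  exact eq_one_of_pow_coprime hco (k := b) (MulEquiv.ext fun x => hb x (hmov x))

theorem closed_image {W X : Subgroup Ω} {Ω' : Type u} [Group Ω'] {S' : Subgroup Ω'} {θ : S →* Ω'}
    {F' : FusionSystem S'} (hF' : F.IsFactorSystem W θ F') (hW : F.StronglyClosed W) (hX : F.StronglyClosed X) :
    F'.StronglyClosed (imageAlong θ X) := by
  have hX' : imageAlong θ X ≤ S' := by rintro _ ⟨x, -, rfl⟩; exact hF'.2.2.1.le ⟨x, rfl⟩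
  refine ⟨hX', fun R' hR' φ' hφ' y => ?_⟩
  obtain ⟨hR'S, φ, hφ, hind⟩ := (hF'.2.2.2 _ _).1 hφ'
  obtain ⟨x, hx, hxy⟩ := hR' y.2
  have hxR : (x : Ω) ∈ preimageAlong θ R' := mem_preimageAlong.2 ⟨x.2, hxy ▸ y.2⟩
  rw [show y = ⟨θ x, hxy ▸ y.2⟩ from Subtype.ext hxy.symm,
    inducedAlong_apply hind ⟨x, hxR⟩ x.2 (hxy ▸ y.2) (apply_mem hφ _)]
  exact ⟨_, FusionP3.StronglyClosed.apply_mem_of_stronglyClosed hX hφ ⟨x, hxR⟩ hx, rfl⟩

theorem main : ∀ (n : ℕ) {Ω : Type u} [Group Ω] {S : Subgroup Ω} [Finite S], Nat.card S = n → IsPGroup p S →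
    ∀ F : FusionSystem S, F.IsSaturated p → ∀ k : ℕ, k ≠ 0 → p ^ k < Nat.card S →
      Emb F (p ^ k) → NTr F p (p ^ k) → IsInner F := by
  intro n
  induction n using Nat.strong_induction_on with
  | _ n ih =>
    intro Ω _ S _ hn hS F hF k hk hdS hEmb hN
    have hp := (Fact.out : p.Prime)
    have hbase : F.StronglyClosed S := ⟨le_rfl, fun R _ φ hφ x => apply_mem hφ x⟩
    have hSne : S ≠ ⊥ := ne_bot_of_one_lt ((Nat.one_lt_pow hk hp.one_lt).trans hdS)
    have full : ∀ W, IsMin F W → Nat.card W = p ^ k → IsInner F := fun W hW hWc =>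
      isInner_of_normal hS hF (hW.isNormal_of_card hS hF hEmb rfl hk hdS hWc) (hN W hW.1.1 hWc)
    have mov : ∀ W, IsMin F W → Nat.card W < p ^ k → Mov F p W := by
      intro W hW hWlt
      haveI := finite_sub hW.1.1
      obtain ⟨e, he⟩ := IsPGroup.iff_card.1 (hS.to_le hW.1.1)
      have hek : e < k := (Nat.pow_lt_pow_iff_right hp.one_lt).1 (he ▸ hWlt)
      have he0 : e ≠ 0 := fun h0 => by
        rw [h0, pow_zero] at he
        exact hW.2.1 (Subgroup.eq_bot_of_card_eq W he)
      set N := W.subgroupOf S with hNdef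
      haveI hNn : N.Normal := ⟨fun w hw g => conj_mem_closed hW.1 g.2 hw⟩
      set θ := QuotientGroup.mk' N with hθ
      have hker : ∀ s : S, θ s = 1 ↔ (s : Ω) ∈ W := fun s =>
        (QuotientGroup.eq_one_iff s).trans Subgroup.mem_subgroupOf
      have hr : θ.range = ⊤ := MonoidHom.range_eq_top.2 (QuotientGroup.mk'_surjective N)
      obtain ⟨F', hF'⟩ := exists_factorSystem (F := F) hW.1 θ hker hr
      have hF's := factor_isSaturated hS hF hW.1 hF'
      have hp' : IsPGroup p (⊤ : Subgroup (S ⧸ N)) := isPGroup_image hS hr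
      haveI : Finite (⊤ : Subgroup (S ⧸ N)) := finite_image hr
      have hNc : Nat.card N = p ^ e :=
        (Nat.card_congr (Subgroup.subgroupOfEquivOfLe hW.1.1).toEquiv).trans he
      have hcard : Nat.card S = Nat.card (⊤ : Subgroup (S ⧸ N)) * p ^ e := by
        rw [Nat.card_congr Subgroup.topEquiv.toEquiv, ← hNc, ← Subgroup.card_eq_card_quotient_mul_card_subgroup N]
      have hlt : Nat.card (⊤ : Subgroup (S ⧸ N)) < n := by
        rw [← hn, hcard]
        exact lt_mul_of_one_lt_right Nat.card_pos (Nat.one_lt_pow he0 hp.one_lt)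
      have hsplit : p ^ (k - e) * p ^ e = p ^ k := by rw [← pow_add, Nat.sub_add_cancel hek.le]
      -- preimages
      have hpre : ∀ Q' : Subgroup (S ⧸ N), Nat.card (preimageAlong θ Q') = Nat.card Q' * p ^ e := fun Q' => by
        have h1 : W ≤ preimageAlong θ Q' := fun w hw => mem_preimageAlong.2 ⟨hW.1.1 hw, by
          rw [(hker ⟨w, hW.1.1 hw⟩).2 hw]; exact one_mem _⟩
        have h2 : preimageAlong θ Q' = (Q'.comap θ).map S.subtype := rfl
        rw [h2, Subgroup.card_map_of_injective S.subtype_injective]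
        have h3 := (Q'.comap θ).card_mul_index
        rw [Subgroup.index_comap_of_surjective Q' (QuotientGroup.mk'_surjective N),
          Subgroup.card_eq_card_quotient_mul_card_subgroup N, ← Q'.card_mul_index, hNc] at h3
        exact Nat.eq_of_mul_eq_mul_right (Nat.pos_of_ne_zero Subgroup.index_ne_zero_of_finite)
          (h3.trans (by ring))
      have hinner : IsInner F' := by
        refine ih _ hlt rfl hp' F' hF's (k - e) (by omega) ?_ ?_ ?_
        · refine lt_of_mul_lt_mul_right' (a := p ^ e) ?_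
          rw [hsplit, ← hcard]; exact hdS
        · -- weakly embedded
          intro Q' _ hQ'c
          obtain ⟨P, hP, hB, hA⟩ := hEmb (preimageAlong θ Q') (preimageAlong_le θ Q')
            (by rw [hpre, hQ'c, hsplit])
          refine ⟨imageAlong θ P, closed_image hF' hW.1 hP, ?_, ?_⟩
          · convert closed_image hF' hW.1 hB using 1
            refine le_antisymm (sup_le ?_ ?_) ?_
            · intro y hy
              obtain ⟨s, rfl⟩ := QuotientGroup.mk'_surjective N y
              exact ⟨s, Subgroup.mem_sup_left (mem_preimageAlong.2 ⟨s.2, hy⟩), rfl⟩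
            · rintro _ ⟨x, hx, rfl⟩; exact ⟨x, Subgroup.mem_sup_right hx, rfl⟩
            · rintro _ ⟨x, hx, rfl⟩
              obtain ⟨q, hq, c, hc, hxe⟩ := exists_mul_of_mem (preimageAlong_le θ Q') hP hx
              obtain ⟨hqS, hqQ⟩ := mem_preimageAlong.1 hq
              rw [show x = ⟨q, hqS⟩ * ⟨c, hP.1 hc⟩ from Subtype.ext hxe, map_mul]
              exact Subgroup.mul_mem_sup hqQ ⟨⟨c, hP.1 hc⟩, hc, rfl⟩
          · convert closed_image hF' hW.1 hA using 1
            refine le_antisymm ?_ ?_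
            · rintro y ⟨hy, x, hx, rfl⟩
              exact ⟨x, ⟨mem_preimageAlong.2 ⟨x.2, hy⟩, hx⟩, rfl⟩
            · rintro _ ⟨x, ⟨hx1, hx2⟩, rfl⟩
              exact ⟨(mem_preimageAlong.1 hx1).2, x, hx2, rfl⟩
        · -- normalizers
          intro H' _ hH'c D' hHD hD' α' hα' hpres hco
          set H := preimageAlong θ H' with hH
          set R := preimageAlong θ D' with hR
          have hRS : R ≤ S := preimageAlong_le θ D'
          haveI := finite_sub hRS
          haveI := finite_sub (preimageAlong_le θ H')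
          have hHc : Nat.card H = p ^ k := by rw [hH, hpre, hH'c, hsplit]
          have hHR : H ≤ R := fun x hx => by
            obtain ⟨hxS, hxH⟩ := mem_preimageAlong.1 hx
            exact mem_preimageAlong.2 ⟨hxS, hHD hxH⟩
          have hRN : R ≤ normalizerIn S H := fun g hg => by
            obtain ⟨hgS, hgD⟩ := mem_preimageAlong.1 hg
            refine ⟨hgS, mem_normalizer_of_conj_mem fun x hx => ?_⟩
            obtain ⟨hxS, hxH⟩ := mem_preimageAlong.1 hx
            refine mem_preimageAlong.2 ⟨S.mul_mem (S.mul_mem hgS hxS) (S.inv_mem hgS), ?_⟩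
            rw [show (⟨g * x * g⁻¹, S.mul_mem (S.mul_mem hgS hxS) (S.inv_mem hgS)⟩ : S) =
              ⟨g, hgS⟩ * ⟨x, hxS⟩ * ⟨g, hgS⟩⁻¹ from Subtype.ext rfl, map_mul, map_mul, map_inv]
            exact conj_mem_of_normalizer (hD' hgD).2 hxH
          have hD'S : D' ≤ ⊤ := le_top
          obtain ⟨-, φ, hφ, hind⟩ := (hF'.2.2.2 _ _).1 ((mem_autGroup hD'S).1 hα')
          have hrange : φ.range = R := by
            have hK : F.StronglyClosed (θ.ker.map S.subtype) := by rw [ker_map_eq hW.1.1 hker]; exact hW.1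
            rw [range_eq_preimage hK hr hD'S hφ hind, hR]
            congr 1
            ext y
            exact ⟨by rintro ⟨x, rfl⟩; exact (α' x).2, fun hy => ⟨α'⁻¹ ⟨y, hy⟩, by simp⟩⟩
          set β := homEquiv hφ hrange with hβ
          have hstep : ∀ (j : ℕ) (x : R) (hx : θ ⟨x, hRS x.2⟩ ∈ D'),
              θ ⟨(((β : MulAut R) ^ j) x : R), hRS (((β : MulAut R) ^ j) x).2⟩ = ((α' ^ j) ⟨_, hx⟩ : D') := by
            intro j
            induction j with
            | zero => intro x hx; rfl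
            | succ j ihj =>
              intro x hx
              set w := ((β : MulAut R) ^ j) x with hw
              have hwD : θ ⟨w, hRS w.2⟩ ∈ D' := by rw [ihj x hx]; exact SetLike.coe_mem _
              have h1 : (α' ⟨θ ⟨w, hRS w.2⟩, hwD⟩ : D').1 = θ ⟨φ w, apply_mem hφ w⟩ :=
                inducedAlong_apply hind w (hRS w.2) hwD (apply_mem hφ _)
              rw [show (α' ^ (j + 1)) ⟨_, hx⟩ = α' ((α' ^ j) ⟨_, hx⟩) by rw [pow_succ', MulAut.mul_apply],
                show ((α' ^ j) ⟨_, hx⟩) = ⟨θ ⟨w, hRS w.2⟩, hwD⟩ from Subtype.ext (ihj x hx).symm, h1]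
              refine congrArg θ (Subtype.ext ?_)
              show _ = φ w
              rw [pow_succ', MulAut.mul_apply]
              rfl
          haveI := finite_mulAut ↥R
          obtain ⟨c, hc⟩ := exists_pow_coprime (p := p) (β : MulAut R)
          have hγ : (β : MulAut R) ^ p ^ c = 1 := by
            refine hN H (preimageAlong_le θ H') hHc R hHR hRN _
              ((F.autGroup R).pow_mem (homEquiv_mem_autGroup hφ hrange) _) (fun x hx => ?_) hc
            have hxD : θ ⟨x, hRS x.2⟩ ∈ D' := by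
              obtain ⟨_, h⟩ := mem_preimageAlong.1 x.2; exact h
            refine mem_preimageAlong.2 ⟨hRS (((β : MulAut R) ^ p ^ c) x).2, ?_⟩
            rw [hstep _ x hxD]
            have hxH : (θ ⟨x, hRS x.2⟩) ∈ H' := by
              obtain ⟨_, h⟩ := mem_preimageAlong.1 hx; exact h
            have hpow : ∀ (j : ℕ) (y : D'), (y : S ⧸ N) ∈ H' → (((α' ^ j) y : D') : S ⧸ N) ∈ H' := fun j => by
              induction j with
              | zero => exact fun y hy => hy
              | succ j ihj => intro y hy; rw [pow_succ', MulAut.mul_apply]; exact hpres _ (ihj y hy)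
            exact hpow _ ⟨_, hxD⟩ hxH
          refine eq_one_of_pow_coprime hco (k := c) (MulEquiv.ext fun y => Subtype.ext ?_)
          obtain ⟨y, hy⟩ := y
          obtain ⟨s, rfl⟩ := QuotientGroup.mk'_surjective N y
          have h1 := hstep (p ^ c) ⟨s, mem_preimageAlong.2 ⟨s.2, hy⟩⟩ hy
          rw [← h1, MulAut.one_apply]
          refine congrArg θ (Subtype.ext ?_)
          show (((β : MulAut R) ^ p ^ c) _ : R).1 = (s : Ω)
          rw [hγ, MulAut.one_apply]
      -- descend
      intro P hP α hα hco x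
      obtain ⟨φ, hφ, -, hφe⟩ := exists_hom_of_aut hP hα
      obtain ⟨ψ, hψ, hψe⟩ := FusionP3.StronglyClosed.hasLift hS hF hW.1 hφ
      set P' := imageAlong θ P with hP'
      have hle : preimageAlong θ P' ≤ P ⊔ W := fun y hy => by
        obtain ⟨hyS, x, hx, hxy⟩ := mem_preimageAlong.1 hy
        have h1 : ((x⁻¹ * ⟨y, hyS⟩ : S) : Ω) ∈ W := (hker _).1 (by rw [map_mul, map_inv, hxy, inv_mul_cancel])
        have h2 := Subgroup.mul_mem_sup (S := P) (T := W) hx h1
        simpa using h2
      obtain ⟨χ, hχ, hχe⟩ := exists_restrict hψ hle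
      have hK : F.StronglyClosed (θ.ker.map S.subtype) := by rw [ker_map_eq hW.1.1 hker]; exact hW.1
      obtain ⟨χ', hχ'⟩ := exists_induced hK hr le_top hχ
      have hχ'm : χ' ∈ F'.Hom P' := (hF'.2.2.2 _ _).2 ⟨le_top, χ, hχ, hχ'⟩
      have hmemP : ∀ y : P, θ ⟨y, hP y.2⟩ ∈ P' := fun y => ⟨⟨y, hP y.2⟩, y.2, rfl⟩
      have hval : ∀ y : P, χ' ⟨_, hmemP y⟩ = θ ⟨α y, hP (α y).2⟩ := fun y => by
        have hyp : (y : Ω) ∈ preimageAlong θ P' := mem_preimageAlong.2 ⟨hP y.2, hmemP y⟩
        rw [inducedAlong_apply hχ' ⟨y, hyp⟩ (hP y.2) (hmemP y) (apply_mem hχ _)]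
        have h1 := hψe y
        rw [hφe] at h1
        have h3 : θ ((⟨α y, hP (α y).2⟩ : S)⁻¹ * ⟨χ ⟨y, hyp⟩, apply_mem hχ _⟩) = 1 := (hker _).2 (by
          show (((α y : P) : Ω))⁻¹ * χ ⟨y, hyp⟩ ∈ W
          rw [hχe]; exact h1)
        rw [map_mul, map_inv, inv_mul_eq_one] at h3
        exact h3.symm
      haveI : Finite P' := finite_sub (S := (⊤ : Subgroup (S ⧸ N))) le_top
      have hr' : χ'.range = P' := range_eq_of_mem hχ'm (by
        rintro ⟨_, y, hy, rfl⟩
        rw [show (⟨θ y, _⟩ : P') = ⟨_, hmemP ⟨y, hy⟩⟩ from rfl, hval]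
        exact hmemP _) le_rfl
      set a' : MulAut P' := homEquiv hχ'm hr' with ha'
      have hpow : ∀ (j : ℕ) (y : P), ((a' ^ j) ⟨_, hmemP y⟩ : P') = ⟨_, hmemP ((α ^ j) y)⟩ := fun j => by
        induction j with
        | zero => intro y; rfl
        | succ j ihj =>
          intro y
          rw [pow_succ', MulAut.mul_apply, ihj]
          apply Subtype.ext
          show χ' _ = _
          rw [hval, pow_succ', MulAut.mul_apply]
      have hco' : (orderOf a').Coprime p := Nat.Coprime.coprime_dvd_left (orderOf_dvd_of_pow_eq_one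
        (MulEquiv.ext fun y => by
          obtain ⟨_, y, hy, rfl⟩ := y
          rw [show (⟨θ y, _⟩ : P') = ⟨_, hmemP ⟨y, hy⟩⟩ from rfl, hpow, pow_orderOf_eq_one]
          rfl)) hco
      have h1 := isInner_autGroup hp' hinner le_top (homEquiv_mem_autGroup hχ'm hr') hco'
      have h2 : θ ⟨α x, hP (α x).2⟩ = θ ⟨x, hP x.2⟩ := by
        rw [← hval]
        exact congrArg Subtype.val (DFunLike.congr_fun h1 (⟨_, hmemP x⟩ : P'))
      have h3 : θ ((⟨x, hP x.2⟩ : S)⁻¹ * ⟨α x, hP (α x).2⟩) = 1 := by rw [map_mul, map_inv, h2, inv_mul_cancel]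
      exact (hker _).1 h3
    obtain ⟨W, hW, -⟩ := exists_min hbase hSne
    haveI := finite_sub hW.1.1
    rcases (hW.card_le hS hEmb rfl hk).eq_or_lt with hWc | hWlt
    · exact full W hW hWc
    have hM := mov W hW hWlt
    -- a second minimal subgroup settles it
    by_cases hsec : ∃ P, F.StronglyClosed P ∧ P ≠ ⊥ ∧ W ⊓ P = ⊥
    · obtain ⟨P, hP, hPne, hdis⟩ := hsec
      obtain ⟨W', hW', hW'P⟩ := exists_min hP hPne
      rcases (hW'.card_le hS hEmb rfl hk).eq_or_lt with hc | hlt
      · exact full W' hW' hc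
      refine isInner_of_local hS hF fun Q hQ _ _ α hα hco => MulEquiv.ext fun x => ?_
      have h1 : (x : Ω)⁻¹ * ((α x : Q) : Ω) ∈ W ⊓ P :=
        ⟨hM Q hQ.1 α hα hco x, hW'P (mov W' hW' hlt Q hQ.1 α hα hco x)⟩
      rw [hdis, Subgroup.mem_bot, inv_mul_eq_one] at h1
      exact Subtype.ext h1.symm
    push Not at hsec
    -- `W` has order `p`
    obtain ⟨e, he⟩ := IsPGroup.iff_card.1 (hS.to_le hW.1.1)
    have he0 : e ≠ 0 := fun h0 => by
      rw [h0, pow_zero] at he; exact hW.2.1 (Subgroup.eq_bot_of_card_eq W he)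
    by_cases hΦ : W ≤ (frattini S).map S.subtype
    · -- Tate
      have hinn := Tate.eq_inner_of_focal_le_frattini hS hF (F := F) (by
        rw [Tate.focal_eq_sup hS hF]
        refine sup_le ?_ (Subgroup.map_mono (PGroups.commutator_le_frattini hS))
        refine le_trans ((Subgroup.closure_le _).2 ?_) hΦ
        rintro _ ⟨Q, α, x, hQ, hα, rfl⟩
        haveI := finite_sub hQ
        let K : Subgroup (F.autGroup Q) :=
          { carrier := {a | ∀ y : Q, (y : Ω)⁻¹ * ((a.1 y : Q) : Ω) ∈ W}
            one_mem' := fun y => by simp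
            mul_mem' := fun {a b} ha hb y => by
              have := mul_mem (hb y) (ha (b.1 y))
              simpa [mul_assoc, MulAut.mul_apply] using this
            inv_mem' := fun {a} ha y => by
              have h1 := W.inv_mem (ha (a.1⁻¹ y))
              rw [MulAut.apply_inv_self] at h1
              simpa using h1 }
        have hKle : pResidual p (F.autGroup Q) ≤ K := by
          rw [pResidual, Subgroup.closure_le]
          intro a ha y
          exact hM Q hQ a.1 a.2 (by rw [Subgroup.orderOf_coe]; exact ha) y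
        exact hKle hα x)
      intro P φ hφ
      rw [hinn] at hφ
      exact hφ.2
    obtain ⟨m, hm⟩ := IsPGroup.iff_card.1 hS
    have hkm : k < m := (Nat.pow_lt_pow_iff_right hp.one_lt).1 (hm ▸ hdS)
    obtain ⟨M, hMco, hMW⟩ : ∃ M : Subgroup S, IsCoatom M ∧ ¬ W.subgroupOf S ≤ M := by
      by_contra hall
      push Not at hall
      refine hΦ fun w hw => ⟨⟨w, hW.1.1 hw⟩, ?_, rfl⟩
      show _ ∈ Order.radical (Subgroup S)
      rw [Order.radical]
      simp only [Subgroup.mem_iInf, Set.mem_ofPred_eq]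
      exact fun M hM => hall M hM hw
    have he1 : e = 1 := by
      by_contra hne
      set M' := M.map S.subtype
      haveI := PGroups.coatom_normal hS hMco
      have hMi := PGroups.coatom_index hS hMco
      have hz : ∃ z ∈ W, z ∈ M' ∧ orderOf z = p := by
        have h1 : W.subgroupOf S ⊓ M ≠ ⊥ := fun hbot => by
          have h2 : Nat.card (W.subgroupOf S) ≤ p := by
            rw [← hMi, Subgroup.index_eq_card]
            haveI : Finite (S ⧸ M) := inferInstance
            refine Nat.card_le_card_of_injective (fun w : W.subgroupOf S => (QuotientGroup.mk (w : S) : S ⧸ M))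
              fun a b hab => Subtype.ext ?_
            have h3 : (a : S)⁻¹ * b ∈ W.subgroupOf S ⊓ M :=
              ⟨Subgroup.mul_mem _ (Subgroup.inv_mem _ a.2) b.2, QuotientGroup.eq.1 hab⟩
            rw [hbot, Subgroup.mem_bot, inv_mul_eq_one] at h3
            exact h3
          rw [Nat.card_congr (Subgroup.subgroupOfEquivOfLe hW.1.1).toEquiv, he] at h2
          have h7 : e ≤ 1 := (Nat.pow_le_pow_iff_right hp.one_lt).1 (h2.trans_eq (pow_one p).symm)
          omega
        haveI : Nontrivial ↥(W.subgroupOf S ⊓ M) := (Subgroup.nontrivial_iff_ne_bot _).2 h1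
        obtain ⟨l, hl0, hl⟩ := (IsPGroup.nontrivial_iff_card (hS.to_subgroup _)).1 (inferInstance :
          Nontrivial ↥(W.subgroupOf S ⊓ M))
        obtain ⟨u, hu⟩ := exists_prime_orderOf_dvd_card' (G := ↥(W.subgroupOf S ⊓ M)) p (hl ▸ dvd_pow_self p hl0.ne')
        refine ⟨_, u.2.1, ⟨u, u.2.2, rfl⟩, ?_⟩
        show orderOf ((u.1 : S) : Ω) = p
        rw [Subgroup.orderOf_coe, Subgroup.orderOf_coe, hu]
      obtain ⟨z, hzW, hzM, hzo⟩ := hz
      have hM'S : M' ≤ S := Subgroup.map_subtype_le M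
      haveI := finite_sub hM'S
      have hM'c : Nat.card M' = p ^ (m - 1) := by
        rw [Subgroup.card_map_of_injective S.subtype_injective]
        have h5 := M.card_mul_index
        rw [hMi, hm] at h5
        refine Nat.eq_of_mul_eq_mul_right hp.pos (h5.trans ?_)
        rw [← pow_succ, show m - 1 + 1 = m by omega]
      obtain ⟨Q, hQM, hzQ, hQc⟩ := exists_subgroup_between (X := M') (Subgroup.zpowers_le.2 hzM) (n := 1) (m := k)
        (by rw [Nat.card_zpowers, hzo, pow_one]) (by rw [hM'c]; exact pow_dvd_pow p (by omega)) (Nat.pos_of_ne_zero hk)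
      obtain ⟨P, hP, hPne, hdis, -⟩ := hW.meets hEmb (hQM.trans hM'S) hQc hzW (hzQ (Subgroup.mem_zpowers z))
        (fun h1 => by rw [h1, orderOf_one] at hzo; exact hp.one_lt.ne hzo)
        (fun hle => hMW fun w hw => by
          obtain ⟨w', hw', hwe⟩ := hQM (hle hw)
          rwa [← Subtype.ext hwe (a1 := w') (a2 := w)])
      exact hsec P hP hPne hdis
    rw [he1, pow_one] at he
    -- `W` is central
    have hcen : ∀ g ∈ S, ∀ w ∈ W, g * w = w * g := by
      intro g hg w hw
      have hn : g ∈ Subgroup.normalizer (W : Set Ω) :=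
        mem_normalizer_of_conj_mem fun y hy => conj_mem_closed hW.1 hg hy
      haveI := finite_mulAut ↥W
      have h1 : (W.normalizerMonoidHom ⟨g, hn⟩ : MulAut W) = 1 := by
        obtain ⟨j, hj⟩ := isPGroup_autInducedBy hS W ⟨_, (mem_autInducedBy.2 ⟨g, hg, fun _ => rfl⟩ :
          (W.normalizerMonoidHom ⟨g, hn⟩ : MulAut W) ∈ autInducedBy S W)⟩
        have hj' : (W.normalizerMonoidHom ⟨g, hn⟩ : MulAut W) ^ p ^ j = 1 := congrArg Subtype.val hj
        haveI : IsCyclic W := isCyclic_of_prime_card he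
        have hcop : (Nat.card (MulAut W)).Coprime (p ^ j) := by
          rw [IsCyclic.card_mulAut, he, Nat.totient_prime hp]
          refine Nat.Coprime.pow_right j ((hp.coprime_iff_not_dvd.2 ?_).symm)
          intro hd
          have := Nat.le_of_dvd (by have := hp.two_le; omega) hd
          have := hp.pos
          omega
        exact orderOf_eq_one_iff.1 (Nat.eq_one_of_dvd_coprimes hcop (orderOf_dvd_natCard _)
          (orderOf_dvd_of_pow_eq_one hj'))
      have h2 : g * w * g⁻¹ = w := congrArg (fun a : MulAut W => ((a ⟨w, hw⟩ : W) : Ω)) h1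
      calc g * w = g * w * g⁻¹ * g := by group
        _ = w * g := by rw [h2]
    refine isInner_of_local hS hF fun P hfn hc hr α hα hco => ?_
    haveI := finite_sub hfn.1
    haveI := finite_mulAut ↥P
    have hWP : W ≤ P := fun w hw => hc.2 P (isConj_refl F hc.1)
      ⟨hW.1.1 hw, fun y hy => hcen y (hc.1 hy) w hw⟩
    obtain ⟨l, hl⟩ := IsPGroup.iff_card.1 (hS.to_le hfn.1)
    suffices hfix : ∀ x : P, (x : Ω) ∈ W → α x = x from
      eq_one_of_fix hS hfn.1 hfix (hM P hfn.1 α hα hco) hco
    rcases lt_or_ge l k with hlk | hkl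
    · -- the pointwise stabiliser of `W` is a normal `p`-subgroup containing `Aut_S(P)`
      exfalso
      let G₀ : Subgroup (F.autGroup P) :=
        { carrier := {a | ∀ x : P, (x : Ω) ∈ W → a.1 x = x}
          one_mem' := fun x _ => rfl
          mul_mem' := fun {a b} ha hb x hx => by
            rw [Subgroup.coe_mul, MulAut.mul_apply, hb x hx, ha x hx]
          inv_mem' := fun {a} ha x hx => by
            conv_lhs => rw [← ha x hx]
            rw [Subgroup.coe_inv, MulAut.inv_apply_self] }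
      haveI : G₀.Normal := ⟨fun a ha b x hx => by
        have hbx : ((b.1⁻¹ x : P) : Ω) ∈ W :=
          (autGroup_mem_iff_of_stronglyClosed hW.1 hfn.1 ((F.autGroup P).inv_mem b.2) x).1 hx
        rw [Subgroup.coe_mul, Subgroup.coe_mul, Subgroup.coe_inv, MulAut.mul_apply, MulAut.mul_apply,
          ha _ hbx, MulAut.apply_inv_self]⟩
      have hG₀ : IsPGroup p G₀ := isPGroup_of_coprime fun a ha => Subtype.ext (Subtype.ext
        (eq_one_of_fix hS hfn.1 a.2 (hM P hfn.1 a.1.1 a.1.2 (by rwa [Subgroup.orderOf_coe, Subgroup.orderOf_coe]))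
          (by rwa [Subgroup.orderOf_coe, Subgroup.orderOf_coe])))
      have hle : autInducedBy S P ≤ Inn P := fun a ha => by
        refine hr.2.le ⟨⟨a, autInducedBy_le_autGroup F hfn.1 ha⟩, Cores.le_pCore hG₀ ?_, rfl⟩
        intro x hx
        obtain ⟨g, hg, hge⟩ := mem_autInducedBy.1 ha
        apply Subtype.ext
        rw [hge, hcen g hg x hx, mul_inv_cancel_right]
      have hPS : P = S := by
        by_contra hne
        have hlt := Induction.lt_normalizerIn hS (lt_of_le_of_ne hfn.1 hne)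
        obtain ⟨g, hg, hgP⟩ := SetLike.exists_of_lt hlt
        obtain ⟨q, hq⟩ := hle (mem_autInducedBy.2 ⟨g, hg.1, fun _ => rfl⟩ :
          (P.normalizerMonoidHom ⟨g, hg.2⟩ : MulAut P) ∈ autInducedBy S P)
        have hcq : (q : Ω)⁻¹ * g ∈ centralizerIn S P := by
          refine mem_centralizerIn'.2 ⟨mul_mem (inv_mem (hfn.1 q.2)) hg.1, fun y hy => ?_⟩
          have h1 : (q : Ω) * y * (q : Ω)⁻¹ = g * y * g⁻¹ :=
            congrArg (fun a : MulAut P => ((a ⟨y, hy⟩ : P) : Ω)) hq
          calc (q : Ω)⁻¹ * g * y * ((q : Ω)⁻¹ * g)⁻¹ = (q : Ω)⁻¹ * (g * y * g⁻¹) * q := by group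
            _ = y := by rw [← h1]; group
        exact hgP (by simpa using mul_mem q.2 (hc.2 P (isConj_refl F hc.1) hcq))
      subst hPS
      have := (Nat.pow_lt_pow_iff_right hp.one_lt).1 (hl ▸ hdS)
      omega
    · -- a subgroup of order `p ^ k` between `W` and `P`
      obtain ⟨H, hHP, hWH, hHc⟩ := exists_subgroup_between (X := P) hWP (n := 1) (m := k)
        (by rw [he, pow_one]) (hl ▸ pow_dvd_pow p hkl) (Nat.pos_of_ne_zero hk)
      haveI := finite_sub (hHP.trans hfn.1)
      haveI := finite_mulAut ↥H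
      have hmH : ∀ (a : MulAut P), a ∈ F.autGroup P → (orderOf a).Coprime p → ∀ x : P, (x : Ω) ∈ H →
          ((a x : P) : Ω) ∈ H := fun a ha hco' x hx => by
        simpa using mul_mem hx (hWH (hM P hfn.1 a ha hco' x))
      have hpres : α ∈ GT.preserve H P := fun x => ⟨hmH α hα hco x, fun hx => by
        have h1 := hmH α⁻¹ ((F.autGroup P).inv_mem hα) (by rwa [orderOf_inv]) _ hx
        rwa [MulAut.inv_apply_self] at h1⟩
      have h1 : GT.res hHP ⟨α, hpres⟩ = 1 := hN H (hHP.trans hfn.1) hHc H le_rfl (le_normalizerIn (hHP.trans hfn.1))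
        _ (GT.res_mem_autGroup hHP hfn.1 hα) (fun x hx => (GT.res hHP ⟨α, hpres⟩ x).2)
        (coprime_map (GT.res hHP) (by rwa [← Subgroup.orderOf_coe]))
      intro x hx
      have h2 := congrArg Subtype.val (DFunLike.congr_fun h1 ⟨x, hWH hx⟩)
      exact Subtype.ext h2

end Cfsg.Agent.Lib.FusionP3.WeakEmb
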